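import Cfsg.Agent.SylowMeet.Flags

/-!
# Two-groups of isometries over the field of two elements fix a singular flag
-/

set_option autoImplicit false

namespace CfsgLib.SylowMeet

open Module QuadraticMap CfsgLib.Dickson

variable {F V : Type*} [Field F] [AddCommGroup V] [Module F V] {Q : QuadraticForm F V}

/-- The orthogonal complement for the polar form. -/
def porth (Q : QuadraticForm F V) (S : Submodule F V) : Submodule F V where
  carrier := {x | ∀ n ∈ S, polar Q n x = 0}
  zero_mem' n _ := by simp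
  add_mem' {x y} hx hy n hn := by rw [QuadraticMap.polar_add_right, hx n hn, hy n hn, add_zero]
  smul_mem' c x hx n hn := by rw [QuadraticMap.polar_smul_right, hx n hn, smul_zero]

theorem mem_porth {S : Submodule F V} {x : V} : x ∈ porth Q S ↔ ∀ n ∈ S, polar Q n x = 0 := Iff.rfl

theorem porth_eq (S : Submodule F V) : porth Q S = LinearMap.BilinForm.orthogonal (polarBilin Q) S :=
  Submodule.ext fun _ => Iff.rfl

theorem finrank_porth [FiniteDimensional F V] (hQ : (polarBilin Q).Nondegenerate) (S : Submodule F V) :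
    finrank F (porth Q S) = finrank F V - finrank F S := by
  rw [porth_eq]
  exact LinearMap.BilinForm.finrank_orthogonal hQ S

theorem isRefl_polar : LinearMap.BilinForm.IsRefl (polarBilin Q) := fun x y h => by
  show polar Q y x = 0
  rw [polar_comm]
  exact h

theorem porth_mono {S T : Submodule F V} (h : S ≤ T) : porth Q T ≤ porth Q S := fun _ hx n hn => hx n (h hn)

theorem IsSys.lowN_le_porth {k : ℕ} {L : Fin k → V} (hL : IsSys Q L) (i : ℕ) :
    lowN (F := F) L i ≤ porth Q (lowN L i) := by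
  rw [lowN, Submodule.span_le]
  rintro _ ⟨a, -, rfl⟩ n hn
  refine Submodule.span_induction (p := fun x _ => polar Q x (L a) = 0) ?_ (by simp) ?_ ?_ hn
  · rintro _ ⟨b, -, rfl⟩
    exact hL.orth b a
  · intro x y _ _ hx hy
    rw [QuadraticMap.polar_add_left, hx, hy, add_zero]
  · intro c x _ hx
    rw [QuadraticMap.polar_smul_left, hx, smul_zero]

theorem IsSys.singular {k : ℕ} {L : Fin k → V} (hL : IsSys Q L) (i : ℕ) {s : V}
    (hs : s ∈ lowN (F := F) L i) : Q s = 0 := by
  refine Submodule.span_induction (p := fun x _ => Q x = 0) ?_ (QuadraticMap.map_zero Q) ?_ ?_ hs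
  · rintro _ ⟨b, -, rfl⟩
    exact hL.sing b
  · intro x y hx hy hx0 hy0
    rw [map_add_eq, hx0, hy0, hL.lowN_le_porth i hy x hx]
    simp
  · intro c x _ hx
    rw [QuadraticMap.map_smul, hx, smul_zero]

theorem lowN_succ {k : ℕ} (L : Fin k → V) {i : ℕ} (hi : i < k) :
    lowN (F := F) L (i + 1) = lowN L i ⊔ Submodule.span F {L ⟨i, hi⟩} := by
  rw [lowN, lowN, ← Submodule.span_union]
  congr 1
  ext x
  constructor
  · rintro ⟨j, hj, rfl⟩
    rcases Nat.lt_succ_iff_lt_or_eq.1 hj with h | h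
    · exact Or.inl ⟨j, h, rfl⟩
    · exact Or.inr (congrArg L (Fin.ext h))
  · rintro (⟨j, hj, rfl⟩ | rfl)
    · exact ⟨j, Nat.lt_succ_of_lt hj, rfl⟩
    · exact ⟨⟨i, hi⟩, Nat.lt_succ_self i, rfl⟩

theorem IsSys.finrank_lowN [FiniteDimensional F V] {k : ℕ} {L : Fin k → V} (hL : IsSys Q L) :
    ∀ {i : ℕ}, i ≤ k → finrank F (lowN (F := F) L i) = i := by
  intro i
  induction i with
  | zero => intro _; rw [lowN_zero, finrank_bot]
  | succ i ih =>
    intro hi
    have hni : L ⟨i, hi⟩ ∉ lowN (F := F) L i := hL.indep ⟨i, hi⟩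
    rw [lowN_succ L hi]
    have h := Submodule.finrank_sup_add_finrank_inf_eq (lowN (F := F) L i) (Submodule.span F {L ⟨i, hi⟩})
    rw [disjoint_iff.1 (Submodule.disjoint_span_singleton_of_notMem hni), finrank_bot,
      finrank_span_singleton (fun h0 => hni (by rw [h0]; exact zero_mem _)), ih (by omega)] at h
    omega

variable [CharP F 2]

theorem disp_mem_lowN {g : orth Q} {k : ℕ} {L : Fin k → V} (hf : Fixes g L) {i : ℕ} {v : V}
    (hv : v ∈ lowN (F := F) L (i + 1)) : disp g v ∈ lowN (F := F) L i := by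
  have h : lowN (F := F) L (i + 1) ≤ (lowN (F := F) L i).comap (disp g) := by
    rw [lowN, Submodule.span_le]
    rintro _ ⟨j, hj, rfl⟩
    exact lowN_mono L (Nat.lt_succ_iff.1 hj) (hf j)
  exact h hv

theorem apply_eq_disp_add (g : orth Q) (v : V) : (g : V ≃ₗ[F] V) v = disp g v + v := by
  rw [disp_apply, add_assoc, add_self (F := F), add_zero]

theorem apply_mem_lowN {g : orth Q} {k : ℕ} {L : Fin k → V} (hf : Fixes g L) {i : ℕ} {v : V}
    (hv : v ∈ lowN (F := F) L i) : (g : V ≃ₗ[F] V) v ∈ lowN (F := F) L i := by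
  rw [apply_eq_disp_add]
  exact add_mem (disp_mem_lowN hf (lowN_mono L (Nat.le_succ i) hv)) hv

theorem fixes_one {k : ℕ} (L : Fin k → V) : Fixes (1 : orth Q) L := fun i => by
  rw [show disp (1 : orth Q) (L i) = 0 from add_self (F := F) (L i)]
  exact zero_mem _

theorem fixes_mul {g h : orth Q} {k : ℕ} {L : Fin k → V} (hg : Fixes g L) (hh : Fixes h L) :
    Fixes (g * h) L := fun i => by
  have e : disp (g * h) (L i) = (g : V ≃ₗ[F] V) (disp h (L i)) + disp g (L i) := by
    rw [disp_apply, disp_apply, disp_apply, mul_apply, map_add]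
    generalize (g : V ≃ₗ[F] V) (L i) = p
    generalize (g : V ≃ₗ[F] V) ((h : V ≃ₗ[F] V) (L i)) = r
    calc r + L i = r + (p + p) + L i := by rw [add_self (F := F), add_zero]
      _ = _ := by abel
  rw [e]
  exact add_mem (apply_mem_lowN hg (hh i)) (hg i)

theorem disp_porth [FiniteDimensional F V] {g : orth Q} {k : ℕ} {L : Fin k → V} (hf : Fixes g L) {i : ℕ} {v : V}
    (hv : v ∈ porth Q (lowN L i)) : disp g v ∈ porth Q (lowN L (i + 1)) := by
  intro n hn
  have hle : (lowN (F := F) L (i + 1)).map ((g : V ≃ₗ[F] V) : V →ₗ[F] V) ≤ lowN L (i + 1) := by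
    rintro _ ⟨x, hx, rfl⟩
    exact apply_mem_lowN hf hx
  have heq := Submodule.eq_of_le_of_finrank_le hle
    (LinearEquiv.finrank_map_eq (g : V ≃ₗ[F] V) (lowN (F := F) L (i + 1))).ge
  have hn' := hn
  rw [← heq] at hn'
  obtain ⟨n', hn'', rfl⟩ := hn'
  show polar Q ((g : V ≃ₗ[F] V) n') (disp g v) = 0
  have h := hv (disp g n') (disp_mem_lowN hf hn'')
  rw [disp_apply] at h
  rw [disp_apply, QuadraticMap.polar_add_right, polar_map, ← QuadraticMap.polar_add_left, add_comm]
  exact h

theorem disp_sq (g : orth Q) (v : V) : disp (g * g) v = disp g (disp g v) := by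
  rw [disp_apply, disp_apply, disp_apply, mul_apply, map_add]
  generalize (g : V ≃ₗ[F] V) v = p
  generalize (g : V ≃ₗ[F] V) p = r
  calc r + v = r + (p + p) + v := by rw [add_self (F := F), add_zero]
    _ = _ := by abel

theorem disp_two_pow (g : orth Q) : ∀ (j : ℕ) (v : V), disp (g ^ 2 ^ j) v = ((disp g) ^ 2 ^ j) v := by
  intro j
  induction j with
  | zero => intro v; simp
  | succ j ih =>
    intro v
    rw [pow_succ 2 j, mul_two, pow_add g, disp_sq, ih, ih, pow_add, Module.End.mul_apply]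

variable [FiniteDimensional F V]

theorem exists_singular_notMem (hQ : (polarBilin Q).Nondegenerate) {k : ℕ} {L : Fin k → V} (hL : IsSys Q L)
    (hdim : finrank F V = 2 * (k + 1)) (U : Submodule F V) (hU : ∀ u ∈ U, Q u = 0)
    (hUd : finrank F U = k + 1) :
    ∃ l, l ∈ porth Q (lowN L k) ∧ l ∉ lowN (F := F) L k ∧ Q l = 0 := by
  set S := lowN (F := F) L k
  have hUp : ∀ x ∈ U, ∀ y ∈ U, polar Q x y = 0 := fun x hx y hy => by
    rw [QuadraticMap.polar, hU _ (U.add_mem hx hy), hU _ hx, hU _ hy, sub_zero, sub_zero]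
  have h1 : U ⊔ porth Q S ≤ porth Q (U ⊓ S) :=
    sup_le (fun u hu n hn => hUp n hn.1 u hu) (porth_mono inf_le_right)
  have h2 := Submodule.finrank_mono h1
  have h3 : finrank F (porth Q (U ⊓ S)) = finrank F V - finrank F (U ⊓ S : Submodule F V) := finrank_porth hQ _
  have h4 : finrank F (porth Q S) = finrank F V - finrank F S := finrank_porth hQ _
  have h5 := Submodule.finrank_sup_add_finrank_inf_eq U (porth Q S)
  have h6 : finrank F S = k := hL.finrank_lowN le_rfl
  have h7 := Submodule.finrank_le (U ⊓ S)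
  by_contra h
  push Not at h
  have hle : U ⊓ porth Q S ≤ U ⊓ S := by
    intro x hx
    refine ⟨hx.1, ?_⟩
    by_contra hxS
    exact h x hx.2 hxS (hU x hx.1)
  have h8 := Submodule.finrank_mono hle
  omega

theorem disp_disp_mem (hF : ∀ x : F, x = 0 ∨ x = 1) (hQ : (polarBilin Q).Nondegenerate) {g : orth Q} {k : ℕ}
    {L : Fin k → V} (hL : IsSys Q L) (hdim : finrank F V = 2 * (k + 1)) (U : Submodule F V)
    (hU : ∀ u ∈ U, Q u = 0) (hUd : finrank F U = k + 1) (hf : Fixes g L) {v : V}
    (hv : v ∈ porth Q (lowN L k)) : disp g (disp g v) ∈ lowN (F := F) L k := by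
  obtain ⟨l, hlo, hlS, hl⟩ := exists_singular_notMem hQ hL hdim U hU hUd
  set S := lowN (F := F) L k with hS
  obtain ⟨f₀, hf₀, hfl₀⟩ : ∃ f₀ ∈ porth Q S, polar Q f₀ l = 1 := by
    by_contra h
    push Not at h
    apply hlS
    have h' : l ∈ porth Q (porth Q S) := fun n hn => (hF _).resolve_right (h n hn)
    rwa [porth_eq, porth_eq, LinearMap.BilinForm.orthogonal_orthogonal hQ isRefl_polar] at h'
  obtain ⟨f, hfo, hfl, hf0⟩ : ∃ f ∈ porth Q S, polar Q f l = 1 ∧ Q f = 0 := by
    rcases hF (Q f₀) with h | h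
    · exact ⟨f₀, hf₀, hfl₀, h⟩
    · refine ⟨f₀ + l, add_mem hf₀ hlo, ?_, ?_⟩
      · rw [QuadraticMap.polar_add_left, hfl₀, polar_self_zero, add_zero]
      · rw [map_add_eq, h, hl, hfl₀, add_zero, CharTwo.add_self_eq_zero]
  have hlf : polar Q l f = 1 := by rw [polar_comm, hfl]
  -- coordinates modulo the flag
  have hSle : S ≤ porth Q S := hL.lowN_le_porth k
  have hcoord : ∀ w ∈ porth Q S, w + polar Q w f • l + polar Q w l • f ∈ S := by
    intro w hw
    set T := S ⊔ Submodule.span F {l}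
    set T' := T ⊔ Submodule.span F {f}
    have hTl : ∀ x ∈ T, polar Q x l = 0 := by
      intro x hx
      obtain ⟨s, hs, y, hy, rfl⟩ := Submodule.mem_sup.1 hx
      obtain ⟨c, rfl⟩ := Submodule.mem_span_singleton.1 hy
      rw [QuadraticMap.polar_add_left, hlo s hs, QuadraticMap.polar_smul_left, polar_self_zero, smul_zero, add_zero]
    have h1 : S < T := lt_of_le_of_ne le_sup_left fun h =>
      hlS (by rw [h]; exact Submodule.mem_sup_right (Submodule.mem_span_singleton_self l))
    have h2 : T < T' := lt_of_le_of_ne le_sup_left fun h =>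
      one_ne_zero (hfl.symm.trans (hTl f (by rw [h]; exact Submodule.mem_sup_right (Submodule.mem_span_singleton_self f))))
    have h3 := Submodule.finrank_lt_finrank_of_lt h1
    have h4 := Submodule.finrank_lt_finrank_of_lt h2
    have h5 : finrank F (porth Q T') = finrank F V - finrank F T' := finrank_porth hQ _
    have h6 : finrank F S = k := hL.finrank_lowN le_rfl
    have hST : S ≤ porth Q T' := by
      intro s hs n hn
      obtain ⟨x, hx, y, hy, rfl⟩ := Submodule.mem_sup.1 hn
      obtain ⟨s', hs', y', hy', rfl⟩ := Submodule.mem_sup.1 hx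
      obtain ⟨c, rfl⟩ := Submodule.mem_span_singleton.1 hy
      obtain ⟨c', rfl⟩ := Submodule.mem_span_singleton.1 hy'
      rw [QuadraticMap.polar_add_left, QuadraticMap.polar_add_left, hSle hs s' hs', QuadraticMap.polar_smul_left,
        QuadraticMap.polar_smul_left, polar_comm Q l, hlo s hs, polar_comm Q f, hfo s hs]
      simp
    have heq := Submodule.eq_of_le_of_finrank_le hST (by omega)
    rw [heq]
    intro n hn
    obtain ⟨x, hx, y, hy, rfl⟩ := Submodule.mem_sup.1 hn
    obtain ⟨s', hs', y', hy', rfl⟩ := Submodule.mem_sup.1 hx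
    obtain ⟨c, rfl⟩ := Submodule.mem_span_singleton.1 hy
    obtain ⟨c', rfl⟩ := Submodule.mem_span_singleton.1 hy'
    have e : w + polar Q w f • l + polar Q w l • f ∈ porth Q S :=
      add_mem (add_mem hw (Submodule.smul_mem _ _ hlo)) (Submodule.smul_mem _ _ hfo)
    have e1 : polar Q l (w + polar Q w f • l + polar Q w l • f) = 0 := by
      rw [QuadraticMap.polar_add_right, QuadraticMap.polar_add_right, QuadraticMap.polar_smul_right,
        QuadraticMap.polar_smul_right, polar_self_zero, hlf, polar_comm Q l w]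
      simp [CharTwo.add_self_eq_zero]
    have e2 : polar Q f (w + polar Q w f • l + polar Q w l • f) = 0 := by
      rw [QuadraticMap.polar_add_right, QuadraticMap.polar_add_right, QuadraticMap.polar_smul_right,
        QuadraticMap.polar_smul_right, polar_self_zero, hfl, polar_comm Q f w]
      simp [CharTwo.add_self_eq_zero]
    rw [QuadraticMap.polar_add_left, QuadraticMap.polar_add_left, e s' hs', QuadraticMap.polar_smul_left,
      QuadraticMap.polar_smul_left, e1, e2]
    simp
  -- the isometry permutes the two singular classes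
  have hdS : ∀ s ∈ S, disp g s ∈ S := fun s hs => disp_mem_lowN hf (lowN_mono L (Nat.le_succ k) hs)
  have hgo : ∀ w ∈ porth Q S, (g : V ≃ₗ[F] V) w ∈ porth Q S := fun w hw => by
    rw [apply_eq_disp_add]
    exact add_mem (porth_mono (lowN_mono L (Nat.le_succ k)) (disp_porth hf hw)) hw
  have hclass : ∀ w, w ∈ porth Q S → Q w = 0 → w ∉ S → w + l ∈ S ∨ w + f ∈ S := by
    intro w hw hw0 hwS
    have hr := hcoord w hw
    rcases hF (polar Q w f) with h1 | h1 <;> rcases hF (polar Q w l) with h2 | h2 <;>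
      rw [h1, h2] at hr <;> simp only [zero_smul, one_smul, add_zero] at hr
    · exact absurd hr hwS
    · exact Or.inr hr
    · exact Or.inl hr
    · exfalso
      have h := hL.singular k hr
      rw [map_add_eq, map_add_eq (Q := Q) w, hw0, hl, hf0, QuadraticMap.polar_add_left, hlf, h2, h1] at h
      simp [CharTwo.add_self_eq_zero] at h
  have hgS : ∀ w, w ∉ S → (g : V ≃ₗ[F] V) w ∉ S := by
    intro w hw hgw
    have hle : S.map ((g : V ≃ₗ[F] V) : V →ₗ[F] V) ≤ S := by
      rintro _ ⟨x, hx, rfl⟩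
      exact apply_mem_lowN hf hx
    rw [← Submodule.eq_of_le_of_finrank_le hle (LinearEquiv.finrank_map_eq (g : V ≃ₗ[F] V) S).ge] at hgw
    obtain ⟨x, hx, hxw⟩ := hgw
    exact hw ((g : V ≃ₗ[F] V).injective hxw ▸ hx)
  have hfS : f ∉ S := fun h => one_ne_zero (hfl.symm.trans (hlo f h))
  have hsame : ∀ x y z : V, x + z ∈ S → y + z ∈ S → polar Q z z = 0 → z ∈ porth Q S → polar Q x y = 0 := by
    intro x y z hx hy hzz hz
    suffices h : ∀ a ∈ S, ∀ b ∈ S, polar Q (a + z) (b + z) = 0 by
      have e := h _ hx _ hy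
      rwa [add_assoc x, add_assoc y, add_self (F := F), add_zero, add_zero] at e
    intro a ha b hb
    rw [QuadraticMap.polar_add_left, QuadraticMap.polar_add_right, QuadraticMap.polar_add_right,
      hSle hb a ha, hzz, hz a ha, polar_comm Q z b, hz b hb]
    simp
  have hgg : polar Q ((g : V ≃ₗ[F] V) l) ((g : V ≃ₗ[F] V) f) = 1 := by rw [polar_map, hlf]
  have hd : ∀ w, disp g w = (g : V ≃ₗ[F] V) w + w := fun w => rfl
  have hmain : disp g (disp g l) ∈ S ∧ disp g (disp g f) ∈ S := by
    rcases hclass _ (hgo l hlo) (by rw [g.2, hl]) (hgS l hlS) with h1 | h1 <;>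
      rcases hclass _ (hgo f hfo) (by rw [g.2, hf0]) (hgS f hfS) with h2 | h2
    · exact absurd (hsame _ _ l h1 h2 (polar_self_zero l) hlo) (by rw [hgg]; exact one_ne_zero)
    · rw [← hd] at h1 h2
      exact ⟨hdS _ h1, hdS _ h2⟩
    · have hs : disp g (l + f) ∈ S := by
        rw [hd, map_add, show (g : V ≃ₗ[F] V) l + (g : V ≃ₗ[F] V) f + (l + f) =
          ((g : V ≃ₗ[F] V) l + f) + ((g : V ≃ₗ[F] V) f + l) by abel]
        exact add_mem h1 h2
      have e : ∀ w, (g : V ≃ₗ[F] V) w + w + (l + f) ∈ S → disp g (disp g w) ∈ S := by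
        intro w hw
        have := add_mem (hdS _ hw) hs
        rwa [← map_add, add_assoc _ (l + f), add_self (F := F), add_zero, ← hd] at this
      refine ⟨e l ?_, e f ?_⟩
      · rw [show (g : V ≃ₗ[F] V) l + l + (l + f) = ((g : V ≃ₗ[F] V) l + f) + (l + l) by abel,
          add_self (F := F), add_zero]
        exact h1
      · rw [show (g : V ≃ₗ[F] V) f + f + (l + f) = ((g : V ≃ₗ[F] V) f + l) + (f + f) by abel,
          add_self (F := F), add_zero]
        exact h2
    · exact absurd (hsame _ _ f h1 h2 (polar_self_zero f) hfo) (by rw [hgg]; exact one_ne_zero)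
  have hr := hdS _ (hdS _ (hcoord v hv))
  rw [map_add, map_add, map_add, map_add, map_smul, map_smul, map_smul, map_smul] at hr
  have := sub_mem (sub_mem hr (S.smul_mem (polar Q v l) hmain.2)) (S.smul_mem (polar Q v f) hmain.1)
  simpa using this

theorem exists_pow_eq_one (hF : ∀ x : F, x = 0 ∨ x = 1) (hQ : (polarBilin Q).Nondegenerate) {g : orth Q} {k : ℕ}
    {L : Fin k → V} (hL : IsSys Q L) (hdim : finrank F V = 2 * (k + 1)) (U : Submodule F V)
    (hU : ∀ u ∈ U, Q u = 0) (hUd : finrank F U = k + 1) (hf : Fixes g L) : ∃ j, g ^ 2 ^ j = 1 := by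
  have hdown : ∀ (i : ℕ) (v : V), v ∈ lowN (F := F) L i → ((disp g) ^ i) v = 0 := by
    intro i
    induction i with
    | zero => intro v hv; rw [lowN_zero, Submodule.mem_bot] at hv; simp [hv]
    | succ i ih =>
      intro v hv
      rw [pow_succ, Module.End.mul_apply]
      exact ih _ (disp_mem_lowN hf hv)
  have hup : ∀ (i : ℕ) (v : V), ((disp g) ^ i) v ∈ porth Q (lowN L i) := by
    intro i
    induction i with
    | zero =>
      intro v n hn
      rw [lowN_zero, Submodule.mem_bot] at hn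
      simp [hn]
    | succ i ih =>
      intro v
      rw [pow_succ', Module.End.mul_apply]
      exact disp_porth hf (ih v)
  refine ⟨2 * k + 2, ?_⟩
  have hzero : ∀ v, ((disp g) ^ 2 ^ (2 * k + 2)) v = 0 := by
    intro v
    obtain ⟨d, hd⟩ : ∃ d, 2 ^ (2 * k + 2) = d + (k + 2 + k) :=
      ⟨2 ^ (2 * k + 2) - (k + 2 + k), by have := Nat.lt_two_pow_self (n := 2 * k + 2); omega⟩
    rw [hd, pow_add, Module.End.mul_apply]
    suffices h : ((disp g) ^ (k + 2 + k)) v = 0 by rw [h, map_zero]
    rw [pow_add, pow_add, Module.End.mul_apply, Module.End.mul_apply, pow_two, Module.End.mul_apply]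
    exact hdown k _ (disp_disp_mem hF hQ hL hdim U hU hUd hf (hup k v))
  refine Subtype.ext (LinearEquiv.ext fun v => ?_)
  have h : disp (g ^ 2 ^ (2 * k + 2)) v = 0 := by rw [disp_two_pow, hzero]
  rw [disp_apply, add_eq_zero_iff (F := F)] at h
  exact h

omit [FiniteDimensional F V] in
/-- A fixed vector modulo an invariant subspace. -/
theorem exists_fixed_mod [Finite V] (hc : Nat.card F = 2) {P : Subgroup (orth Q)} (hP : IsPGroup 2 P)
    {A B : Submodule F V} (hAB : A < B) (hA : ∀ g ∈ P, ∀ v ∈ A, (g : V ≃ₗ[F] V) v ∈ A)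
    (hB : ∀ g ∈ P, ∀ v ∈ B, (g : V ≃ₗ[F] V) v ∈ B) :
    ∃ v ∈ B, v ∉ A ∧ ∀ g ∈ P, disp g v ∈ A := by
  haveI : Fact (Nat.Prime 2) := ⟨Nat.prime_two⟩
  set W := B.map A.mkQ with hW
  let act : P → W → W := fun g x => ⟨A.mapQ A (((g : orth Q) : V ≃ₗ[F] V) : V →ₗ[F] V) (hA _ g.2) x.1, by
    obtain ⟨b, hb, hbx⟩ := x.2
    exact ⟨((g : orth Q) : V ≃ₗ[F] V) b, hB _ g.2 b hb, by rw [← hbx]; rfl⟩⟩
  letI : MulAction P W :=
    { smul := act
      one_smul := fun x => by
        obtain ⟨b, -, hbx⟩ := x.2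
        refine Subtype.ext ?_
        show A.mapQ A _ _ x.1 = x.1
        rw [← hbx]; rfl
      mul_smul := fun g h x => by
        obtain ⟨b, -, hbx⟩ := x.2
        refine Subtype.ext ?_
        show A.mapQ A _ _ x.1 = A.mapQ A _ _ (A.mapQ A _ _ x.1)
        rw [← hbx]; rfl }
  haveI : Finite (V ⧸ A) := Finite.of_surjective _ A.mkQ_surjective
  have hdvd : 2 ∣ Nat.card W := by
    have hpos : finrank F W ≠ 0 := by
      intro h
      rw [Submodule.finrank_eq_zero] at h
      refine hAB.not_ge fun b hb => (Submodule.Quotient.mk_eq_zero A).1 ?_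
      have hm : A.mkQ b ∈ W := Submodule.mem_map_of_mem hb
      rwa [h, Submodule.mem_bot] at hm
    rw [Module.natCard_eq_pow_finrank (K := F), hc]
    exact dvd_pow_self 2 hpos
  have h0 : (0 : W) ∈ MulAction.fixedPoints P W := fun g => Subtype.ext (by
    show A.mapQ A _ _ (0 : V ⧸ A) = 0
    exact map_zero _)
  obtain ⟨⟨b, hb⟩, hbfix, hbne⟩ := hP.exists_fixed_point_of_prime_dvd_card_of_fixed_point W hdvd h0
  obtain ⟨v, hv, rfl⟩ := hb
  refine ⟨v, hv, fun hvA => hbne (Subtype.ext ((Submodule.Quotient.mk_eq_zero A).2 hvA).symm), fun g hg => ?_⟩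
  have h : A.mkQ ((g : V ≃ₗ[F] V) v) = A.mkQ v := congrArg Subtype.val (hbfix ⟨g, hg⟩)
  have h' := (Submodule.Quotient.eq A).1 h
  rw [disp_apply, ← sub_neg_eq_add, show -v = v from neg_eq_iff_add_eq_zero.2 (add_self (F := F) v)]
  exact h'

omit [CharP F 2] [FiniteDimensional F V] in
theorem lowN_snoc {k : ℕ} (L : Fin k → V) (w : V) {i : ℕ} (hi : i ≤ k) :
    lowN (F := F) (Fin.snoc L w : Fin (k + 1) → V) i = lowN L i := by
  rw [lowN, lowN]
  congr 1
  ext x
  constructor
  · rintro ⟨j, hj, rfl⟩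
    have hjk : j.val < k := lt_of_lt_of_le hj hi
    exact ⟨⟨j.val, hjk⟩, hj, by
      conv_rhs => rw [show j = Fin.castSucc ⟨j.val, hjk⟩ from Fin.ext rfl, Fin.snoc_castSucc]⟩
  · rintro ⟨j, hj, rfl⟩
    exact ⟨j.castSucc, hj, by rw [Fin.snoc_castSucc]⟩

/-- A 2-group fixes a singular flag of every length below the Witt index. -/
theorem exists_sys [Finite V] (hc : Nat.card F = 2) (hF : ∀ x : F, x = 0 ∨ x = 1)
    (hQ : (polarBilin Q).Nondegenerate) {m : ℕ} (hdim : finrank F V = 2 * m) {P : Subgroup (orth Q)}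
    (hP : IsPGroup 2 P) : ∀ k, k < m → ∃ L : Fin k → V, IsSys Q L ∧ ∀ g ∈ P, Fixes g L := by
  intro k
  induction k with
  | zero =>
    intro _
    exact ⟨fun i => i.elim0, ⟨fun i => i.elim0, fun i => i.elim0, fun i => i.elim0⟩, fun g _ i => i.elim0⟩
  | succ k ih =>
    intro hk
    obtain ⟨L, hL, hfix⟩ := ih (by omega)
    set S := lowN (F := F) L k
    have hS : finrank F S = k := hL.finrank_lowN le_rfl
    have hSle : S ≤ porth Q S := hL.lowN_le_porth k
    have hgS : ∀ g ∈ P, ∀ v ∈ S, (g : V ≃ₗ[F] V) v ∈ S := fun g hg v hv => apply_mem_lowN (hfix g hg) hv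
    have hgo : ∀ g ∈ P, ∀ v ∈ porth Q S, (g : V ≃ₗ[F] V) v ∈ porth Q S := fun g hg v hv => by
      rw [apply_eq_disp_add]
      exact add_mem (porth_mono (lowN_mono L (Nat.le_succ k)) (disp_porth (hfix g hg) hv)) hv
    have hlt : S < porth Q S := lt_of_le_of_ne hSle fun h => by
      have h2 : finrank F (porth Q S) = finrank F V - finrank F S := finrank_porth hQ _
      rw [← h] at h2
      omega
    obtain ⟨v₀, hv₀, hv₀S, hv₀fix⟩ := exists_fixed_mod hc hP hlt hgS hgo
    suffices h : ∃ w, Q w = 0 ∧ w ∈ porth Q S ∧ w ∉ S ∧ ∀ g ∈ P, disp g w ∈ S by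
      obtain ⟨w, hw0, hwo, hwS, hwfix⟩ := h
      refine ⟨Fin.snoc L w, ⟨fun i => ?_, fun i j => ?_, fun i => ?_⟩, fun g hg i => ?_⟩
      · induction i using Fin.lastCases <;> simp [hw0, hL.sing]
      · have h1 : ∀ j : Fin k, polar Q (L j) w = 0 := fun j => hwo _ (mem_lowN j.2)
        induction i using Fin.lastCases <;> induction j using Fin.lastCases <;>
          simp [hL.orth, h1, polar_comm Q w, CharTwo.two_eq_zero]
      · induction i using Fin.lastCases with
        | last => rw [Fin.snoc_last, Fin.val_last, lowN_snoc L w le_rfl]; exact hwS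
        | cast i => rw [Fin.snoc_castSucc, Fin.val_castSucc, lowN_snoc L w i.2.le]; exact hL.indep i
      · induction i using Fin.lastCases with
        | last => rw [Fin.snoc_last, Fin.val_last, lowN_snoc L w le_rfl]; exact hwfix g hg
        | cast i => rw [Fin.snoc_castSucc, Fin.val_castSucc, lowN_snoc L w i.2.le]; exact hfix g hg i
    by_cases hq : Q v₀ = 0
    · exact ⟨v₀, hq, hv₀, hv₀S, hv₀fix⟩
    have hq1 : Q v₀ = 1 := (hF _).resolve_left hq
    set S' := S ⊔ Submodule.span F {v₀}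
    have hmem' : ∀ x ∈ S', ∃ s ∈ S, ∃ c : F, s + c • v₀ = x := fun x hx => by
      obtain ⟨s, hs, y, hy, rfl⟩ := Submodule.mem_sup.1 hx
      obtain ⟨c, rfl⟩ := Submodule.mem_span_singleton.1 hy
      exact ⟨s, hs, c, rfl⟩
    have hS'le : S' ≤ porth Q S' := by
      intro x hx n hn
      obtain ⟨s, hs, c, rfl⟩ := hmem' x hx
      obtain ⟨s', hs', c', rfl⟩ := hmem' n hn
      rw [QuadraticMap.polar_add_left, QuadraticMap.polar_add_right, QuadraticMap.polar_add_right,
        hSle hs s' hs', QuadraticMap.polar_smul_right, hv₀ s' hs', QuadraticMap.polar_smul_left, polar_comm Q v₀ s,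
        hv₀ s hs, QuadraticMap.polar_smul_left, QuadraticMap.polar_smul_right, polar_self_zero]
      simp
    have hgS' : ∀ g ∈ P, ∀ v ∈ S', (g : V ≃ₗ[F] V) v ∈ S' := by
      intro g hg v hv
      obtain ⟨s, hs, c, rfl⟩ := hmem' v hv
      rw [map_add, map_smul, apply_eq_disp_add g v₀]
      exact add_mem (Submodule.mem_sup_left (hgS g hg s hs)) (Submodule.smul_mem _ _
        (add_mem (Submodule.mem_sup_left (hv₀fix g hg)) (Submodule.mem_sup_right (Submodule.mem_span_singleton_self v₀))))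
    have hgo' : ∀ g ∈ P, ∀ v ∈ porth Q S', (g : V ≃ₗ[F] V) v ∈ porth Q S' := by
      intro g hg v hv n hn
      have h := hv _ (hgS' g⁻¹ (P.inv_mem hg) n hn)
      rw [← polar_map g, ← mul_apply, mul_inv_cancel] at h
      exact h
    have hlt' : S' < porth Q S' := lt_of_le_of_ne hS'le fun h => by
      have h2 : finrank F (porth Q S') = finrank F V - finrank F S' := finrank_porth hQ _
      have h3 : finrank F S' ≤ k + 1 := by
        show finrank F (S ⊔ Submodule.span F {v₀} : Submodule F V) ≤ k + 1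
        have := Submodule.finrank_sup_add_finrank_inf_eq S (Submodule.span F {v₀})
        have h4 : finrank F (Submodule.span F {v₀}) ≤ 1 := (finrank_span_le_card ({v₀} : Set V)).trans (by simp)
        omega
      rw [← h] at h2
      omega
    obtain ⟨v₁, hv₁, hv₁S, hv₁fix⟩ := exists_fixed_mod hc hP hlt' hgS' hgo'
    obtain ⟨w, hw0, hwo, hwS⟩ : ∃ w, Q w = 0 ∧ w ∈ porth Q S' ∧ w + v₁ ∈ S' := by
      rcases hF (Q v₁) with h | h
      · exact ⟨v₁, h, hv₁, by rw [add_self (F := F)]; exact zero_mem _⟩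
      · have hv0' : v₀ ∈ S' := Submodule.mem_sup_right (Submodule.mem_span_singleton_self v₀)
        refine ⟨v₁ + v₀, ?_, add_mem hv₁ (hS'le hv0'), ?_⟩
        · rw [map_add_eq, h, hq1, polar_comm, hv₁ v₀ hv0', add_zero, CharTwo.add_self_eq_zero]
        · rw [add_right_comm, add_self (F := F), zero_add]; exact hv0'
    have hwS' : w ∉ S' := fun h => hv₁S (by simpa using sub_mem hwS h)
    refine ⟨w, hw0, porth_mono le_sup_left hwo, fun h => hwS' (Submodule.mem_sup_left h), fun g hg => ?_⟩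
    have hd : disp g w ∈ S' := by
      have h1 : disp g (w + v₁) ∈ S' := add_mem (hgS' g hg _ hwS) hwS
      rw [map_add] at h1
      simpa using sub_mem h1 (hv₁fix g hg)
    obtain ⟨s, hs, c, hsc⟩ := hmem' _ hd
    have hgw := g.2 w
    rw [apply_eq_disp_add, map_add_eq, ← hsc, map_add_eq, QuadraticMap.map_smul,
      hL.singular k hs, hq1, hw0, QuadraticMap.polar_smul_right, hv₀ s hs, hwo _ (hsc ▸ hd)] at hgw
    simp only [smul_eq_mul, mul_one, mul_zero, zero_add, add_zero] at hgw
    have hc0 : c = 0 := mul_self_eq_zero.1 hgw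
    rw [← hsc, hc0, zero_smul, add_zero]
    exact hs

variable [Finite V]

theorem finite_orth : Finite (orth Q) :=
  haveI : Finite (V ≃ₗ[F] V) := Finite.of_injective (fun e => (e : V → V)) DFunLike.coe_injective
  Subtype.finite

/-- The stabiliser of a flag. -/
def fixesSub {k : ℕ} (L : Fin k → V) : Subgroup (orth Q) where
  carrier := {g | Fixes g L}
  one_mem' := fixes_one L
  mul_mem' := fixes_mul
  inv_mem' := by
    intro g hg
    haveI : Finite (orth Q) := finite_orth
    show Fixes g⁻¹ L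
    have h : g⁻¹ = g ^ (orderOf g - 1) := by
      refine inv_eq_of_mul_eq_one_right ?_
      rw [← pow_succ', Nat.sub_add_cancel (orderOf_pos g), pow_orderOf_eq_one]
    rw [h]
    generalize orderOf g - 1 = n
    induction n with
    | zero => exact fixes_one L
    | succ n ih => rw [pow_succ]; exact fixes_mul ih hg

/-- Two Sylow 2-subgroups meet non-trivially. -/
theorem sylow_meet (hc : Nat.card F = 2) (hQ : (polarBilin Q).Nondegenerate) {k : ℕ}
    (hdim : finrank F V = 2 * (k + 1)) (U : Submodule F V) (hU : ∀ u ∈ U, Q u = 0) (hUd : finrank F U = k + 1)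
    (H₁ H₂ : Sylow 2 (orth Q)) :
    ∃ g : orth Q, g ≠ 1 ∧ g ∈ (H₁ : Subgroup (orth Q)) ∧ g ∈ (H₂ : Subgroup (orth Q)) := by
  have hF : ∀ x : F, x = 0 ∨ x = 1 := fun x => by
    obtain ⟨a, b, -, hab⟩ := Nat.card_eq_two_iff.1 hc
    have h : ∀ y : F, y = a ∨ y = b := fun y => by
      have := Set.mem_univ y
      rw [← hab] at this
      simpa using this
    by_contra hx
    push Not at hx
    rcases h x with h1 | h1 <;> rcases h 0 with h2 | h2 <;> rcases h 1 with h3 | h3 <;>
      simp_all [eq_comm]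
  have key : ∀ H : Sylow 2 (orth Q), ∃ L : Fin k → V, IsSys Q L ∧
      fixesSub (Q := Q) L = (H : Subgroup (orth Q)) := by
    intro H
    obtain ⟨L, hL, hfix⟩ := exists_sys hc hF hQ hdim H.isPGroup' k (by omega)
    refine ⟨L, hL, H.is_maximal' (fun g => ?_) hfix⟩
    obtain ⟨j, hj⟩ := exists_pow_eq_one hF hQ hL hdim U hU hUd g.2
    exact ⟨j, Subtype.ext hj⟩
  obtain ⟨L₁, hL₁, e₁⟩ := key H₁
  obtain ⟨L₂, hL₂, e₂⟩ := key H₂
  obtain ⟨g, hg, -, h₁, h₂⟩ := exists_common hF k Q hQ (by omega) L₁ L₂ hL₁ hL₂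
  exact ⟨g, hg, e₁ ▸ h₁, e₂ ▸ h₂⟩

end CfsgLib.SylowMeet
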