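import Cfsg.Agent.Dickson.Basic

/-!
# Two singular flags over the field of two elements have a common involution in their stabilisers
-/

set_option autoImplicit false

namespace CfsgLib.SylowMeet

open Module QuadraticMap CfsgLib.Dickson

universe u v

variable {F : Type v} [Field F] {V : Type u} [AddCommGroup V] [Module F V] {Q : QuadraticForm F V}

/-- The span of the first `i` vectors of a list. -/
def lowN {k : ℕ} (L : Fin k → V) (i : ℕ) : Submodule F V := Submodule.span F (L '' {j | j.val < i})

theorem mem_lowN {k : ℕ} {L : Fin k → V} {i : ℕ} {j : Fin k} (h : j.val < i) : L j ∈ lowN (F := F) L i :=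
  Submodule.subset_span ⟨j, h, rfl⟩

theorem lowN_mono {k : ℕ} (L : Fin k → V) {i i' : ℕ} (h : i ≤ i') : lowN (F := F) L i ≤ lowN L i' :=
  Submodule.span_mono (Set.image_mono fun _ hj => lt_of_lt_of_le hj h)

theorem lowN_zero {k : ℕ} (L : Fin k → V) : lowN (F := F) L 0 = ⊥ := by
  rw [lowN, show {j : Fin k | j.val < 0} = ∅ by ext; simp, Set.image_empty, Submodule.span_empty]

/-- An independent system of mutually orthogonal singular vectors, spanning a singular flag. -/
structure IsSys (Q : QuadraticForm F V) {k : ℕ} (L : Fin k → V) : Prop where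
  sing : ∀ i, Q (L i) = 0
  orth : ∀ i j, polar Q (L i) (L j) = 0
  indep : ∀ i : Fin k, L i ∉ lowN (F := F) L i.val

/-- `g` fixes the flag and acts trivially on its factors. -/
def Fixes (g : orth Q) {k : ℕ} (L : Fin k → V) : Prop := ∀ i : Fin k, disp g (L i) ∈ lowN (F := F) L i.val

variable [CharP F 2]

/-- The isometry `v ↦ v + B(v,a) w + (B(v,w) + B(v,a) Q w) a` for singular `a` and `w ⟂ a`. -/
noncomputable def siegel (a w : V) (ha : Q a = 0) (haw : polar Q a w = 0) : orth Q := by
  let T : V →ₗ[F] V := LinearMap.id + (polarBilin Q a).smulRight w +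
    (polarBilin Q w + Q w • polarBilin Q a).smulRight a
  have hT : ∀ x, T x = x + polar Q a x • w + (polar Q w x + Q w * polar Q a x) • a := fun x => by
    simp [T]
  refine ⟨LinearEquiv.ofInvolutive T ?_, ?_⟩
  · intro x
    have h1 : polar Q a (T x) = polar Q a x := by
      rw [hT, QuadraticMap.polar_add_right, QuadraticMap.polar_add_right, QuadraticMap.polar_smul_right,
        QuadraticMap.polar_smul_right, polar_self_zero, haw, smul_zero, smul_zero, add_zero, add_zero]
    have h2 : polar Q w (T x) = polar Q w x := by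
      rw [hT, QuadraticMap.polar_add_right, QuadraticMap.polar_add_right, QuadraticMap.polar_smul_right,
        QuadraticMap.polar_smul_right, polar_self_zero, polar_comm Q w a, haw, smul_zero, smul_zero, add_zero,
        add_zero]
    rw [hT (T x), h1, h2, hT]
    generalize polar Q a x • w = p
    generalize (polar Q w x + Q w * polar Q a x) • a = r
    calc x + p + r + p + r = x + (p + p) + (r + r) := by abel
      _ = x := by rw [add_self (F := F), add_self (F := F), add_zero, add_zero]
  · intro x
    show Q (T x) = Q x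
    rw [hT, map_add_eq, map_add_eq (Q := Q) x, QuadraticMap.map_smul, QuadraticMap.map_smul, ha,
      QuadraticMap.polar_add_left, QuadraticMap.polar_smul_left, QuadraticMap.polar_smul_right,
      QuadraticMap.polar_smul_right, QuadraticMap.polar_smul_right, polar_comm Q w a, haw,
      polar_comm Q x a, polar_comm Q x w]
    simp only [smul_eq_mul]
    have h2 : (2 : F) = 0 := CharTwo.two_eq_zero
    linear_combination (polar Q a x * polar Q w x + Q w * polar Q a x * polar Q a x) * h2

theorem siegel_apply (a w : V) (ha : Q a = 0) (haw : polar Q a w = 0) (x : V) :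
    ((siegel a w ha haw : orth Q) : V ≃ₗ[F] V) x =
      x + polar Q a x • w + (polar Q w x + Q w * polar Q a x) • a := rfl

theorem siegel_mul_self (a w : V) (ha : Q a = 0) (haw : polar Q a w = 0) :
    siegel a w ha haw * siegel (Q := Q) a w ha haw = 1 := by
  refine Subtype.ext (LinearEquiv.ext fun x => ?_)
  rw [mul_apply]
  have hinv := LinearEquiv.apply_symm_apply ((siegel a w ha haw : orth Q) : V ≃ₗ[F] V) x
  exact hinv

theorem disp_siegel (a w : V) (ha : Q a = 0) (haw : polar Q a w = 0) (x : V) :
    disp (siegel a w ha haw : orth Q) x = polar Q a x • w + (polar Q w x + Q w * polar Q a x) • a := by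
  rw [disp_apply, siegel_apply]
  generalize polar Q a x • w = p
  generalize (polar Q w x + Q w * polar Q a x) • a = r
  calc x + p + r + x = (x + x) + p + r := by abel
    _ = p + r := by rw [add_self (F := F), zero_add]

theorem siegel_ne_one [FiniteDimensional F V] (hQ : (polarBilin Q).Nondegenerate) {a w : V} (ha : Q a = 0)
    (haw : polar Q a w = 0) (ha0 : a ≠ 0) (hw : w ∉ Submodule.span F {a}) :
    (siegel a w ha haw : orth Q) ≠ 1 := by
  intro h
  refine ha0 (hQ.1 a fun x => ?_)
  show polar Q a x = 0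
  by_contra hx
  apply hw
  have h0 : disp (siegel a w ha haw : orth Q) x = 0 := by
    rw [h]; exact add_self (F := F) x
  rw [disp_siegel, add_eq_zero_iff (F := F)] at h0
  rw [Submodule.mem_span_singleton]
  exact ⟨(polar Q a x)⁻¹ * (polar Q w x + Q w * polar Q a x), by rw [← smul_smul, ← h0, smul_smul, inv_mul_cancel₀ hx, one_smul]⟩

theorem fixes_siegel {k : ℕ} {L : Fin (k + 1) → V} (hL : IsSys Q L) {w : V}
    (haw : polar Q (L 0) w = 0) : Fixes (siegel (L 0) w (hL.sing 0) haw : orth Q) L := by
  intro i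
  rw [disp_siegel, hL.orth 0 i, zero_smul, zero_add, mul_zero, add_zero]
  rcases eq_or_ne i 0 with rfl | hi
  · rw [polar_comm, haw, zero_smul]
    exact zero_mem _
  · exact Submodule.smul_mem _ _ (mem_lowN (Nat.pos_of_ne_zero fun h => hi (Fin.ext h)))

theorem fixes_siegel_swap {k : ℕ} {L : Fin (k + 1) → V} (hL : IsSys Q L) {a : V} (ha : Q a = 0)
    (haw : polar Q a (L 0) = 0) : Fixes (siegel a (L 0) ha haw : orth Q) L := by
  intro i
  rw [disp_siegel, hL.sing 0, hL.orth 0 i, zero_mul, add_zero, zero_smul, add_zero]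
  rcases eq_or_ne i 0 with rfl | hi
  · rw [haw, zero_smul]
    exact zero_mem _
  · exact Submodule.smul_mem _ _ (mem_lowN (Nat.pos_of_ne_zero fun h => hi (Fin.ext h)))

variable [FiniteDimensional F V]

theorem exists_perp_notMem {k : ℕ} (hQ : (polarBilin Q).Nondegenerate) (hdim : 2 * (k + 1) + 1 ≤ finrank F V)
    (a : V) : ∃ w, polar Q a w = 0 ∧ w ∉ Submodule.span F {a} := by
  by_contra h
  push Not at h
  have hle : LinearMap.ker (polarBilin Q a) ≤ Submodule.span F {a} := fun w hw => h w hw
  have h1 := Submodule.finrank_mono hle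
  have h2 := (polarBilin Q a).finrank_range_add_finrank_ker
  have h3 := Submodule.finrank_le (LinearMap.range (polarBilin Q a))
  have h4 : finrank F (Submodule.span F {a}) ≤ 1 :=
    (finrank_span_le_card ({a} : Set V)).trans (by simp)
  rw [Module.finrank_self] at h3
  omega

/-- The hyperbolic complement of a pair. -/
def perp2 (Q : QuadraticForm F V) (a b : V) : Submodule F V :=
  LinearMap.ker (polarBilin Q a) ⊓ LinearMap.ker (polarBilin Q b)

/-- Orthogonal projection onto the complement of a hyperbolic pair. -/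
noncomputable def proj2 (a b : V) (ha : Q a = 0) (hb : Q b = 0) (hab : polar Q a b = 1) : V →ₗ[F] perp2 Q a b :=
  LinearMap.codRestrict _ (LinearMap.id + (polarBilin Q b).smulRight a + (polarBilin Q a).smulRight b) fun x => by
    have h1 : polar Q a a = 0 := polar_self_zero a
    have h2 : polar Q b b = 0 := polar_self_zero b
    refine ⟨?_, ?_⟩ <;>
      simp [LinearMap.mem_ker, QuadraticMap.polar_add_right, QuadraticMap.polar_smul_right, h1, h2, hab,
        polar_comm Q b a, CharTwo.add_self_eq_zero]

theorem coe_proj2 (a b : V) (ha : Q a = 0) (hb : Q b = 0) (hab : polar Q a b = 1) (x : V) :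
    (proj2 a b ha hb hab x : V) = x + polar Q b x • a + polar Q a x • b := rfl

omit [FiniteDimensional F V] in
theorem mem_perp2 {a b x : V} : x ∈ perp2 Q a b ↔ polar Q a x = 0 ∧ polar Q b x = 0 := Iff.rfl

/-- Extension of an isometry of the complement. -/
noncomputable def extend2 (a b : V) (ha : Q a = 0) (hb : Q b = 0) (hab : polar Q a b = 1)
    (g : orth (Q.comp (perp2 Q a b).subtype)) (hg : g * g = 1) : orth Q := by
  let T : V →ₗ[F] V := (perp2 Q a b).subtype.comp
      (((g : perp2 Q a b ≃ₗ[F] perp2 Q a b) : perp2 Q a b →ₗ[F] perp2 Q a b).comp (proj2 a b ha hb hab)) +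
    (polarBilin Q b).smulRight a + (polarBilin Q a).smulRight b
  have hT : ∀ x, T x = ((g : perp2 Q a b ≃ₗ[F] perp2 Q a b) (proj2 a b ha hb hab x) : V) +
      polar Q b x • a + polar Q a x • b := fun x => rfl
  have hpol : ∀ x, polar Q a (T x) = polar Q a x ∧ polar Q b (T x) = polar Q b x := fun x => by
    obtain ⟨h1, h2⟩ := mem_perp2.1 ((g : perp2 Q a b ≃ₗ[F] perp2 Q a b) (proj2 a b ha hb hab x)).2
    have h3 : polar Q a a = 0 := polar_self_zero a
    have h4 : polar Q b b = 0 := polar_self_zero b
    constructor <;>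
      simp [hT, QuadraticMap.polar_add_right, QuadraticMap.polar_smul_right, h1, h2, h3, h4, hab, polar_comm Q b a]
  have hproj : ∀ x, proj2 a b ha hb hab (T x) = (g : perp2 Q a b ≃ₗ[F] perp2 Q a b) (proj2 a b ha hb hab x) := fun x => by
    refine Subtype.ext ?_
    rw [coe_proj2, (hpol x).1, (hpol x).2, hT]
    generalize polar Q b x • a = p
    generalize polar Q a x • b = r
    generalize ((g : perp2 Q a b ≃ₗ[F] perp2 Q a b) (proj2 a b ha hb hab x) : V) = s
    calc s + p + r + p + r = s + (p + p) + (r + r) := by abel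
      _ = s := by rw [add_self (F := F), add_self (F := F), add_zero, add_zero]
  refine ⟨LinearEquiv.ofInvolutive T ?_, ?_⟩
  · intro x
    rw [hT (T x), (hpol x).1, (hpol x).2, hproj,
      show (g : perp2 Q a b ≃ₗ[F] perp2 Q a b) ((g : perp2 Q a b ≃ₗ[F] perp2 Q a b) (proj2 a b ha hb hab x)) =
        proj2 a b ha hb hab x by rw [← mul_apply, hg]; rfl, coe_proj2]
    generalize polar Q b x • a = p
    generalize polar Q a x • b = r
    calc x + p + r + p + r = x + (p + p) + (r + r) := by abel
      _ = x := by rw [add_self (F := F), add_self (F := F), add_zero, add_zero]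
  · intro x
    show Q (T x) = Q x
    have hg' := g.2 (proj2 a b ha hb hab x)
    rw [QuadraticMap.comp_apply, QuadraticMap.comp_apply, Submodule.subtype_apply, Submodule.subtype_apply] at hg'
    have key : ∀ s : V, s ∈ perp2 Q a b →
        Q (s + polar Q b x • a + polar Q a x • b) = Q s + polar Q b x * polar Q a x := by
      intro s hs
      obtain ⟨h1, h2⟩ := mem_perp2.1 hs
      rw [polar_comm] at h1 h2
      rw [map_add_eq, map_add_eq (Q := Q) s, QuadraticMap.map_smul, QuadraticMap.map_smul, ha, hb]
      simp [QuadraticMap.polar_add_left, QuadraticMap.polar_smul_left, QuadraticMap.polar_smul_right, h1, h2, hab]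
      ring
    have hx : x = (proj2 a b ha hb hab x : V) + polar Q b x • a + polar Q a x • b := by
      rw [coe_proj2]
      generalize polar Q b x • a = p
      generalize polar Q a x • b = r
      calc x = x + (p + p) + (r + r) := by rw [add_self (F := F), add_self (F := F), add_zero, add_zero]
        _ = _ := by abel
    conv_rhs => rw [hx]
    rw [hT, key _ (Subtype.mem _), key _ (Subtype.mem _), hg']

theorem extend2_apply (a b : V) (ha : Q a = 0) (hb : Q b = 0) (hab : polar Q a b = 1)
    (g : orth (Q.comp (perp2 Q a b).subtype)) (hg : g * g = 1) (x : V) :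
    ((extend2 a b ha hb hab g hg : orth Q) : V ≃ₗ[F] V) x =
      ((g : perp2 Q a b ≃ₗ[F] perp2 Q a b) (proj2 a b ha hb hab x) : V) +
        polar Q b x • a + polar Q a x • b := rfl

theorem disp_extend2 (a b : V) (ha : Q a = 0) (hb : Q b = 0) (hab : polar Q a b = 1)
    (g : orth (Q.comp (perp2 Q a b).subtype)) (hg : g * g = 1) (x : V) :
    disp (extend2 a b ha hb hab g hg : orth Q) x = (disp g (proj2 a b ha hb hab x) : V) := by
  rw [disp_apply, disp_apply, extend2_apply, Submodule.coe_add, coe_proj2]
  abel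

theorem nondegenerate_perp2 (hQ : (polarBilin Q).Nondegenerate) {a b : V} (ha : Q a = 0) (hb : Q b = 0)
    (hab : polar Q a b = 1) : (polarBilin (Q.comp (perp2 Q a b).subtype)).Nondegenerate := by
  have h : ∀ x : perp2 Q a b, (∀ y, polarBilin (Q.comp (perp2 Q a b).subtype) x y = 0) → x = 0 := by
    intro x hx
    refine Subtype.ext (hQ.1 x.1 fun y => ?_)
    show polar Q x.1 y = 0
    have h := hx (proj2 a b ha hb hab y)
    obtain ⟨h1, h2⟩ := mem_perp2.1 x.2
    rw [polar_comm] at h1 h2
    have h' : polar Q x.1 (proj2 a b ha hb hab y : V) = 0 := h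
    rw [coe_proj2, QuadraticMap.polar_add_right, QuadraticMap.polar_add_right, QuadraticMap.polar_smul_right,
      QuadraticMap.polar_smul_right, h1, h2, smul_zero, smul_zero, add_zero, add_zero] at h'
    exact h'
  exact ⟨h, fun x hx => h x fun y => by
    have := hx y
    rwa [polarBilin_apply_apply, polar_comm] at this⟩

theorem finrank_perp2 (a b : V) : finrank F V ≤ finrank F (perp2 Q a b) + 2 := by
  have h1 := (polarBilin Q a).finrank_range_add_finrank_ker
  have h2 := (polarBilin Q b).finrank_range_add_finrank_ker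
  have h3 := Submodule.finrank_le (LinearMap.range (polarBilin Q a))
  have h4 := Submodule.finrank_le (LinearMap.range (polarBilin Q b))
  rw [Module.finrank_self] at h3 h4
  have h5 := Submodule.finrank_sup_add_finrank_inf_eq (LinearMap.ker (polarBilin Q a)) (LinearMap.ker (polarBilin Q b))
  have h6 := Submodule.finrank_le (LinearMap.ker (polarBilin Q a) ⊔ LinearMap.ker (polarBilin Q b))
  rw [perp2]
  omega

omit [FiniteDimensional F V] in
theorem eq_one_of_ne_zero (hF : ∀ x : F, x = 0 ∨ x = 1) {x : F} (h : x ≠ 0) : x = 1 := (hF x).resolve_left h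

/-- The tail of a system, projected to the complement of a hyperbolic pair on its first vector. -/
noncomputable def tailSys {k : ℕ} (a b : V) (ha : Q a = 0) (hb : Q b = 0) (hab : polar Q a b = 1)
    (L : Fin (k + 1) → V) (i : Fin k) : perp2 Q a b := proj2 a b ha hb hab (L i.succ)

theorem proj2_tail {k : ℕ} {a b : V} (ha : Q a = 0) (hb : Q b = 0) (hab : polar Q a b = 1)
    {L : Fin (k + 1) → V} (hL : IsSys Q L) (h0 : L 0 = a ∨ L 0 = b) (i : Fin (k + 1)) :
    ∃ c : F, (proj2 a b ha hb hab (L i) : V) = L i + c • L 0 := by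
  rcases h0 with h | h
  · refine ⟨polar Q b (L i), ?_⟩
    rw [coe_proj2, ← h, hL.orth 0 i, zero_smul, add_zero]
  · refine ⟨polar Q a (L i), ?_⟩
    rw [coe_proj2, ← h, hL.orth 0 i, zero_smul, add_zero]

theorem lowN_tail_le {k : ℕ} {a b : V} (ha : Q a = 0) (hb : Q b = 0) (hab : polar Q a b = 1)
    {L : Fin (k + 1) → V} (hL : IsSys Q L) (h0 : L 0 = a ∨ L 0 = b) (i : ℕ) :
    (lowN (F := F) (tailSys a b ha hb hab L) i).map (perp2 Q a b).subtype ≤ lowN L (i + 1) := by
  rw [lowN, Submodule.map_span, Submodule.span_le]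
  rintro _ ⟨_, ⟨j, hj, rfl⟩, rfl⟩
  obtain ⟨c, hc⟩ := proj2_tail ha hb hab hL h0 j.succ
  rw [Submodule.subtype_apply, tailSys, hc]
  exact add_mem (mem_lowN (by simpa using hj)) (Submodule.smul_mem _ _ (mem_lowN (by simp)))

theorem isSys_tail {k : ℕ} {a b : V} (ha : Q a = 0) (hb : Q b = 0) (hab : polar Q a b = 1)
    {L : Fin (k + 1) → V} (hL : IsSys Q L) (h0 : L 0 = a ∨ L 0 = b) :
    IsSys (Q.comp (perp2 Q a b).subtype) (tailSys a b ha hb hab L) := by
  refine ⟨fun i => ?_, fun i j => ?_, fun i hi => ?_⟩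
  · obtain ⟨c, hc⟩ := proj2_tail ha hb hab hL h0 i.succ
    rw [QuadraticMap.comp_apply, Submodule.subtype_apply, tailSys, hc, map_add_eq, QuadraticMap.map_smul,
      QuadraticMap.polar_smul_right, hL.sing, hL.sing, hL.orth]
    simp
  · obtain ⟨c, hc⟩ := proj2_tail ha hb hab hL h0 i.succ
    obtain ⟨e, he⟩ := proj2_tail ha hb hab hL h0 j.succ
    have : polar Q (proj2 a b ha hb hab (L i.succ) : V) (proj2 a b ha hb hab (L j.succ) : V) = 0 := by
      simp [hc, he, QuadraticMap.polar_add_left, QuadraticMap.polar_add_right, QuadraticMap.polar_smul_left,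
        QuadraticMap.polar_smul_right, hL.orth]
    simpa [QuadraticMap.polar, tailSys] using this
  · obtain ⟨c, hc⟩ := proj2_tail ha hb hab hL h0 i.succ
    apply hL.indep i.succ
    have h := lowN_tail_le ha hb hab hL h0 i.val ⟨_, hi, rfl⟩
    rw [Submodule.subtype_apply, tailSys, hc] at h
    have h' : c • L 0 ∈ lowN (F := F) L (i.val + 1) := Submodule.smul_mem _ _ (mem_lowN (by simp))
    simpa [Fin.val_succ] using sub_mem h h'

theorem fixes_extend2 {k : ℕ} {a b : V} (ha : Q a = 0) (hb : Q b = 0) (hab : polar Q a b = 1)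
    {L : Fin (k + 1) → V} (hL : IsSys Q L) (h0 : L 0 = a ∨ L 0 = b)
    {g : orth (Q.comp (perp2 Q a b).subtype)} (hg : g * g = 1) (hf : Fixes g (tailSys a b ha hb hab L)) :
    Fixes (extend2 a b ha hb hab g hg) L := by
  intro i
  rw [disp_extend2]
  induction i using Fin.cases with
  | zero =>
    have h : proj2 a b ha hb hab (L 0) = 0 := by
      refine Subtype.ext ?_
      rcases h0 with h | h <;>
        simp [coe_proj2, h, hab, ha, hb, polar_comm Q b a, add_self (F := F)]
    rw [h, map_zero]
    exact zero_mem _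
  | succ j =>
    exact Fin.val_succ j ▸ lowN_tail_le ha hb hab hL h0 j.val ⟨_, hf j, rfl⟩

omit [FiniteDimensional F V] in
theorem exists_refl (hF : ∀ x : F, x = 0 ∨ x = 1) (hQ : (polarBilin Q).Nondegenerate)
    (hdim : 1 ≤ finrank F V) : ∃ g : orth Q, g ≠ 1 ∧ g * g = 1 := by
  obtain ⟨x, hx⟩ : ∃ x, Q x = 1 := by
    by_contra h
    push Not at h
    have h0 : ∀ x, Q x = 0 := fun x => (hF (Q x)).resolve_right (h x)
    have : Nontrivial V := Module.nontrivial_of_finrank_pos (R := F) (by omega)
    obtain ⟨y, hy⟩ := exists_ne (0 : V)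
    exact hy (hQ.1 y fun z => by simp [QuadraticMap.polar, h0])
  refine ⟨refl x hx, fun he => ?_, refl_mul_self x hx⟩
  have hx0 : x ≠ 0 := by rintro rfl; simp at hx
  refine hx0 (hQ.1 x fun z => ?_)
  show polar Q x z = 0
  have h : z + polar Q x z • x = z := by rw [← refl_apply x hx, he]; rfl
  rw [add_eq_left, smul_eq_zero] at h
  exact h.resolve_right hx0

/-- Two systems of length `k` in dimension `≥ 2k+2` are fixed by a common involution. -/
theorem exists_common {F : Type v} [Field F] [CharP F 2] (hF : ∀ x : F, x = 0 ∨ x = 1) (k : ℕ) :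
    ∀ {V : Type u} [AddCommGroup V] [Module F V] [FiniteDimensional F V] (Q : QuadraticForm F V),
      (polarBilin Q).Nondegenerate → 2 * k + 2 ≤ finrank F V → ∀ a b : Fin k → V, IsSys Q a → IsSys Q b →
      ∃ g : orth Q, g ≠ 1 ∧ g * g = 1 ∧ Fixes g a ∧ Fixes g b := by
  induction k with
  | zero =>
    intro V _ _ _ Q hQ hdim a b _ _
    obtain ⟨g, h1, h2⟩ := exists_refl hF hQ (by omega)
    exact ⟨g, h1, h2, fun i => i.elim0, fun i => i.elim0⟩
  | succ k ih =>
    intro V _ _ _ Q hQ hdim a b ha hb
    have ha0 : a 0 ≠ 0 := fun h => ha.indep 0 (h ▸ zero_mem _)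
    by_cases hab : polar Q (a 0) (b 0) = 0
    · by_cases heq : b 0 ∈ Submodule.span F {a 0}
      · obtain ⟨c, hc⟩ := Submodule.mem_span_singleton.1 heq
        have hb0 : b 0 ≠ 0 := fun h => hb.indep 0 (h ▸ zero_mem _)
        have hc1 : c = 1 := eq_one_of_ne_zero hF (fun h => hb0 (by rw [← hc, h, zero_smul]))
        rw [hc1, one_smul] at hc
        obtain ⟨w, hw, hw'⟩ := exists_perp_notMem (k := k) hQ (by omega) (a 0)
        refine ⟨siegel (a 0) w (ha.sing 0) hw, siegel_ne_one hQ _ hw ha0 hw', siegel_mul_self _ _ _ _,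
          fixes_siegel ha hw, ?_⟩
        have h := fixes_siegel hb (w := w) (by rw [← hc]; exact hw)
        simp only [← hc] at h
        exact h
      · exact ⟨siegel (a 0) (b 0) (ha.sing 0) hab, siegel_ne_one hQ _ hab ha0 heq, siegel_mul_self _ _ _ _,
          fixes_siegel ha hab, fixes_siegel_swap hb _ hab⟩
    · have hab1 := eq_one_of_ne_zero hF hab
      have hd := finrank_perp2 (Q := Q) (a 0) (b 0)
      obtain ⟨g, hg1, hg2, hga, hgb⟩ := ih (Q.comp (perp2 Q (a 0) (b 0)).subtype)
        (nondegenerate_perp2 hQ (ha.sing 0) (hb.sing 0) hab1) (by omega) _ _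
        (isSys_tail (ha.sing 0) (hb.sing 0) hab1 ha (Or.inl rfl))
        (isSys_tail (ha.sing 0) (hb.sing 0) hab1 hb (Or.inr rfl))
      refine ⟨extend2 (a 0) (b 0) (ha.sing 0) (hb.sing 0) hab1 g hg2, fun h => hg1 ?_, ?_,
        fixes_extend2 _ _ _ ha (Or.inl rfl) hg2 hga, fixes_extend2 _ _ _ hb (Or.inr rfl) hg2 hgb⟩
      · refine Subtype.ext (LinearEquiv.ext fun y => Subtype.ext ?_)
        obtain ⟨y1, y2⟩ := mem_perp2.1 y.2
        have hy : proj2 (a 0) (b 0) (ha.sing 0) (hb.sing 0) hab1 (y : V) = y := Subtype.ext (by simp [coe_proj2, y1, y2])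
        have := congrArg (fun e : orth Q => (e : V ≃ₗ[F] V) (y : V)) h
        simp only [extend2_apply, hy, y1, y2, zero_smul, add_zero] at this
        simpa using this
      · refine Subtype.ext (LinearEquiv.ext fun x => ?_)
        rw [mul_apply]
        exact LinearEquiv.apply_symm_apply ((extend2 (a 0) (b 0) _ _ hab1 g hg2 : orth Q) : V ≃ₗ[F] V) x

end CfsgLib.SylowMeet
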